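/-
Vanishing of `Tor` through a chain of presentations: chases in the second variable, base change to an algebra
over which the module is flat, directed unions.
-/
import Mathlib
import Groth.Agent.LocalCrit.Basic

set_option autoImplicit false
universe u

open TensorProduct

namespace Groth.Agent.TorLocFlat

variable {A : Type u} [CommRing A]
variable {M K F : Type u} [AddCommGroup M] [Module A M] [AddCommGroup K] [Module A K] [AddCommGroup F]
  [Module A F]
variable {N N' N'' : Type u} [AddCommGroup N] [Module A N] [AddCommGroup N'] [Module A N']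
  [AddCommGroup N''] [Module A N'']

theorem rTensor_lTensor (ι : K →ₗ[A] F) (f : N →ₗ[A] N') (t : K ⊗[A] N) :
    ι.rTensor N' (f.lTensor K t) = f.lTensor F (ι.rTensor N t) := by
  induction t with
  | zero => simp
  | add a b ha hb => simp only [map_add, ha, hb]
  | tmul k n => simp

/-- vanishing passes to extensions -/
theorem inj_middle [Module.Flat A F] (ι : K →ₗ[A] F) (f : N' →ₗ[A] N) (g : N →ₗ[A] N'')
    (hf : Function.Injective f) (hg : Function.Surjective g) (hex : Function.Exact f g)
    (h' : Function.Injective (ι.rTensor N')) (h'' : Function.Injective (ι.rTensor N'')) :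
    Function.Injective (ι.rTensor N) := by
  rw [injective_iff_map_eq_zero]
  intro z hz
  have h1 : g.lTensor K z = 0 := h'' (by rw [rTensor_lTensor, hz, map_zero, map_zero])
  obtain ⟨z', rfl⟩ := (lTensor_exact K hex hg z).1 h1
  rw [rTensor_lTensor] at hz
  have h2 : ι.rTensor N' z' = 0 :=
    Module.Flat.lTensor_preserves_injective_linearMap f hf (by rw [hz, map_zero])
  rw [h' (h2.trans (map_zero _).symm), map_zero]

/-- vanishing passes to submodules when the next one vanishes on the quotient -/
theorem inj_left {K' F' : Type u} [AddCommGroup K'] [Module A K'] [AddCommGroup F'] [Module A F']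
    [Module.Flat A F'] (ι : K →ₗ[A] F) (ι' : K' →ₗ[A] F') (π' : F' →ₗ[A] K)
    (hπ' : Function.Surjective π') (hex' : Function.Exact ι' π')
    (f : N' →ₗ[A] N) (g : N →ₗ[A] N'') (hf : Function.Injective f) (hg : Function.Surjective g)
    (hex : Function.Exact f g)
    (h : Function.Injective (ι.rTensor N)) (h'' : Function.Injective (ι'.rTensor N'')) :
    Function.Injective (ι.rTensor N') := by
  rw [injective_iff_map_eq_zero]
  intro z hz
  have h1 : f.lTensor K z = 0 := h (by rw [rTensor_lTensor, hz, map_zero, map_zero])
  obtain ⟨w, rfl⟩ := LinearMap.rTensor_surjective N' hπ' z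
  rw [← rTensor_lTensor] at h1
  obtain ⟨u, hu⟩ := (rTensor_exact N hex' hπ' _).1 h1
  have h2 : g.lTensor K' u = 0 := h'' (by
    rw [rTensor_lTensor, hu, map_zero, ← LinearMap.comp_apply, ← LinearMap.lTensor_comp,
      hex.linearMap_comp_eq_zero, LinearMap.lTensor_zero, LinearMap.zero_apply])
  obtain ⟨u', rfl⟩ := (lTensor_exact K' hex hg u).1 h2
  rw [rTensor_lTensor] at hu
  have h3 : ι'.rTensor N' u' = w := Module.Flat.lTensor_preserves_injective_linearMap f hf hu
  rw [← h3]
  exact (rTensor_exact N' hex' hπ').apply_apply_eq_zero u'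

/-- a `B`-module sees no `Tor` when `B ⊗ M` is flat over `B` and `B` itself sees none -/
theorem inj_of_algebra (B : Type u) [CommRing B] [Algebra A B] (ι : K →ₗ[A] F) (π : F →ₗ[A] M)
    (hπ : Function.Surjective π) (hex : Function.Exact ι π) (hι : Function.Injective (ι.baseChange B))
    [Module.Flat B (B ⊗[A] M)] (L : Type u) [AddCommGroup L] [Module A L] [Module B L]
    [IsScalarTower A B L] : Function.Injective (ι.rTensor L) := by
  have hexB : Function.Exact (ι.baseChange B) (π.baseChange B) := lTensor_exact B hex hπ
  have h := LinearMap.lTensor_injective_of_exact_of_flat (π.baseChange B) (LinearMap.lTensor_surjective B hπ)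
    (ι.baseChange B) hι hexB L
  let eK := AlgebraTensorModule.cancelBaseChange A B B L K
  let eF := AlgebraTensorModule.cancelBaseChange A B B L F
  have e : ∀ t, eF ((ι.baseChange B).lTensor L t) = ι.lTensor L (eK t) := by
    intro t
    induction t with
    | zero => simp
    | add a b ha hb => simp only [map_add, ha, hb]
    | tmul l q =>
      induction q with
      | zero => simp
      | add a b ha hb => simp only [tmul_add, map_add, ha, hb]
      | tmul b k => simp [eK, eF]
  have hl : Function.Injective (ι.lTensor L) := by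
    intro a b hab
    obtain ⟨a, rfl⟩ := eK.surjective a
    obtain ⟨b, rfl⟩ := eK.surjective b
    rw [← e, ← e] at hab
    exact congrArg eK (h (eF.injective hab))
  intro a b hab
  apply (TensorProduct.comm A K L).injective
  apply hl
  have hc : ∀ t, ι.lTensor L (TensorProduct.comm A K L t) = TensorProduct.comm A F L (ι.rTensor L t) := by
    intro t
    induction t with
    | zero => simp
    | add a b ha hb => simp only [map_add, ha, hb]
    | tmul k l => simp
  rw [hc, hc, hab]

/-- the kernel of a surjection of flat modules is flat -/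
theorem flat_ker [Module.Flat A F] [Module.Flat A M] (ι : K →ₗ[A] F) (π : F →ₗ[A] M)
    (hι : Function.Injective ι) (hπ : Function.Surjective π) (hex : Function.Exact ι π) :
    Module.Flat A K := by
  rw [Module.Flat.iff_rTensor_injective']
  intro J
  rw [injective_iff_map_eq_zero]
  intro z hz
  have h1 : Function.Injective (ι.lTensor J) := LinearMap.lTensor_injective_of_exact_of_flat π hπ ι hι hex J
  apply h1
  rw [map_zero]
  apply Module.Flat.rTensor_preserves_injective_linearMap J.subtype J.subtype_injective
  rw [map_zero, ← rTensor_lTensor' ι J z, hz, map_zero]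
where
  rTensor_lTensor' (ι : K →ₗ[A] F) (J : Ideal A) (z : J ⊗[A] K) :
      ι.lTensor A (J.subtype.rTensor K z) = J.subtype.rTensor F (ι.lTensor J z) :=
    (rTensor_lTensor J.subtype ι z).symm

theorem flat_baseChange_ker (B : Type u) [CommRing B] [Algebra A B] [Module.Flat A F] (ι : K →ₗ[A] F)
    (π : F →ₗ[A] M) (hπ : Function.Surjective π) (hex : Function.Exact ι π)
    (hι : Function.Injective (ι.baseChange B)) [Module.Flat B (B ⊗[A] M)] :
    Module.Flat B (B ⊗[A] K) :=
  flat_ker (ι.baseChange B) (π.baseChange B) hι (LinearMap.lTensor_surjective B hπ) (lTensor_exact B hex hπ)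

/-- vanishing on a directed union -/
theorem inj_union [Module.Flat A F] (ι : K →ₗ[A] F) (S : ℕ → Submodule A N) (hmono : Monotone S)
    (hS : ∀ x, ∃ n, x ∈ S n) (h : ∀ n, Function.Injective (ι.rTensor (S n))) :
    Function.Injective (ι.rTensor N) := by
  rw [injective_iff_map_eq_zero]
  intro z hz
  have hex : ∀ t : K ⊗[A] N, ∃ n t', (S n).subtype.lTensor K t' = t := by
    intro t
    induction t with
    | zero => exact ⟨0, 0, map_zero _⟩
    | tmul k x =>
      obtain ⟨n, hn⟩ := hS x
      exact ⟨n, k ⊗ₜ ⟨x, hn⟩, by simp⟩
    | add a b ha hb =>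
      obtain ⟨n, a', ha'⟩ := ha
      obtain ⟨m, b', hb'⟩ := hb
      refine ⟨max n m, (Submodule.inclusion (hmono (le_max_left n m))).lTensor K a' +
        (Submodule.inclusion (hmono (le_max_right n m))).lTensor K b', ?_⟩
      rw [map_add, ← LinearMap.comp_apply, ← LinearMap.lTensor_comp, Submodule.subtype_comp_inclusion,
        ← LinearMap.comp_apply ((S (max n m)).subtype.lTensor K), ← LinearMap.lTensor_comp,
        Submodule.subtype_comp_inclusion, ha', hb']
  obtain ⟨n, z', rfl⟩ := hex z
  rw [rTensor_lTensor] at hz
  have h2 : ι.rTensor (S n) z' = 0 :=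
    Module.Flat.lTensor_preserves_injective_linearMap _ (S n).injective_subtype (by rw [hz, map_zero])
  rw [h n (h2.trans (map_zero _).symm), map_zero]

/-- the pieces killed by powers of an ideal -/
def tors (I : Ideal A) (n : ℕ) (N : Type u) [AddCommGroup N] [Module A N] : Submodule A N :=
  Submodule.torsionBySet A N ((I ^ n : Ideal A) : Set A)

theorem mem_tors {I : Ideal A} {n : ℕ} {x : N} : x ∈ tors I n N ↔ ∀ a ∈ I ^ n, a • x = 0 := by
  simp [tors, Submodule.mem_torsionBySet_iff]

theorem inj_of_killed (I : Ideal A) [Module.Flat A F] (ι : K →ₗ[A] F) (π : F →ₗ[A] M)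
    (hπ : Function.Surjective π) (hex : Function.Exact ι π) (hι : Function.Injective (ι.baseChange (A ⧸ I)))
    [Module.Flat (A ⧸ I) ((A ⧸ I) ⊗[A] M)] : ∀ (n : ℕ) (N : Type u) [AddCommGroup N] [Module A N],
      (∀ x : N, x ∈ tors I n N) → Function.Injective (ι.rTensor N) := by
  intro n
  induction n with
  | zero =>
    intro N _ _ h
    have : Subsingleton N := subsingleton_of_forall_eq 0 fun x => by
      have h1 := mem_tors.1 (h x) 1 (by simp)
      rwa [one_smul] at h1
    exact Function.injective_of_subsingleton _
  | succ n ih =>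
    intro N _ _ h
    let P : Submodule A N := I • ⊤
    refine inj_middle ι P.subtype P.mkQ P.injective_subtype P.mkQ_surjective
      (LinearMap.exact_subtype_mkQ P) (ih P fun x => ?_) ?_
    · rw [mem_tors]
      intro a ha
      apply Subtype.ext
      rw [Submodule.coe_smul, Submodule.coe_zero]
      refine Submodule.smul_induction_on x.2 (fun b hb y _ => ?_) (fun u v hu hv => ?_)
      · rw [← mul_smul]
        exact mem_tors.1 (h y) _ (by rw [pow_succ]; exact Ideal.mul_mem_mul ha hb)
      · rw [smul_add, hu, hv, add_zero]
    · have htor : Module.IsTorsionBySet A (N ⧸ P) (I : Set A) := by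
        rintro x ⟨a, ha⟩
        obtain ⟨y, rfl⟩ := Submodule.Quotient.mk_surjective _ x
        show a • Submodule.Quotient.mk y = 0
        rw [← Submodule.Quotient.mk_smul, Submodule.Quotient.mk_eq_zero]
        exact Submodule.smul_mem_smul ha Submodule.mem_top
      letI := htor.module
      haveI : IsScalarTower A (A ⧸ I) (N ⧸ P) := htor.isScalarTower
      exact inj_of_algebra (A ⧸ I) ι π hπ hex hι (N ⧸ P)

/-- vanishing on modules all whose elements are killed by a power of `I` -/
theorem inj_of_torsion (I : Ideal A) [Module.Flat A F] (ι : K →ₗ[A] F) (π : F →ₗ[A] M)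
    (hπ : Function.Surjective π) (hex : Function.Exact ι π) (hι : Function.Injective (ι.baseChange (A ⧸ I)))
    [Module.Flat (A ⧸ I) ((A ⧸ I) ⊗[A] M)] (h : ∀ x : N, ∃ n, x ∈ tors I n N) :
    Function.Injective (ι.rTensor N) :=
  inj_union ι (fun n => tors I n N) (fun n m hnm x hx => mem_tors.2 fun a ha =>
    mem_tors.1 hx a (Ideal.pow_le_pow_right hnm ha)) h
    fun n => inj_of_killed I ι π hπ hex hι n _ fun x => mem_tors.2 fun a ha =>
      Subtype.ext (mem_tors.1 x.2 a ha)

end Groth.Agent.TorLocFlat
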